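import Mathlib

/-!
# Crimps of double covers of the formal disk
-/

universe u v

namespace Groth.Agent.CrimpLib

open Polynomial

section Quad

variable {R : Type u} [CommRing R] {S : Type v} [CommRing S] [Algebra R S]
  (B : Module.Basis (Fin 2) R S) (h0 : B 0 = 1) {Q : R} (h1 : B 1 * B 1 = algebraMap R S Q)

include h0 h1

theorem discr_quad : Algebra.discr R ⇑B = 4 * Q := by
  have hmat : ∀ z : S, Algebra.trace R S z = B.repr (z * B 0) 0 + B.repr (z * B 1) 1 := fun z => by
    rw [Algebra.trace_eq_matrix_trace B, Matrix.trace_fin_two,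
      Algebra.leftMulMatrix_eq_repr_mul, Algebra.leftMulMatrix_eq_repr_mul]
  have e11 : B 1 * B 1 = Q • B 0 := by rw [h1, h0, Algebra.algebraMap_eq_smul_one]
  rw [Algebra.discr_def, Matrix.det_fin_two]
  simp only [Algebra.traceMatrix_apply, Algebra.traceForm_apply]
  have t0 : Algebra.trace R S 1 = 2 := by
    rw [hmat, one_mul, one_mul, B.repr_self, B.repr_self, Finsupp.single_eq_same, Finsupp.single_eq_same]
    norm_num
  have t1 : Algebra.trace R S (B 1) = 0 := by
    rw [hmat, e11, map_smul, h0, mul_one, B.repr_self, ← h0, B.repr_self]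
    simp
  have t2 : Algebra.trace R S (B 1 * B 1) = 2 * Q := by
    rw [e11, map_smul, h0, t0, smul_eq_mul, mul_comm]
  rw [h0, one_mul, one_mul, mul_one, t0, t1, t2]
  ring

theorem adjoinRoot_equiv :
    Nonempty (S ≃ₐ[R] AdjoinRoot (X ^ 2 - C Q)) := by
  rcases subsingleton_or_nontrivial R with hR | hR
  · have : Subsingleton S := Module.subsingleton R S
    have : Subsingleton (AdjoinRoot (X ^ 2 - C Q)) := Module.subsingleton R _
    exact ⟨AlgEquiv.ofBijective (Algebra.ofId R _ |>.comp (default : S →ₐ[R] R))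
      ⟨fun a b _ => Subsingleton.elim a b, fun y => ⟨1, Subsingleton.elim _ _⟩⟩⟩
  have hm : (X ^ 2 - C Q).Monic := monic_X_pow_sub_C _ two_ne_zero
  let φ : AdjoinRoot (X ^ 2 - C Q) →ₐ[R] S := AdjoinRoot.liftAlgHom (X ^ 2 - C Q) (Algebra.ofId R S) (B 1) (by
    simp [pow_two, h1, Algebra.ofId_apply])
  have hn : (AdjoinRoot.powerBasis' hm).dim = 2 := by
    rw [AdjoinRoot.powerBasis'_dim, natDegree_X_pow_sub_C]
  let P := (AdjoinRoot.powerBasis' hm).basis.reindex (finCongr hn)
  have hφ : φ.toLinearMap = (P.equiv B (Equiv.refl _)).toLinearMap := P.ext fun i => by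
    rw [LinearEquiv.coe_coe, Module.Basis.equiv_apply, Equiv.refl_apply]
    change φ (P i) = B i
    rw [Module.Basis.reindex_apply, PowerBasis.coe_basis, AdjoinRoot.powerBasis'_gen, map_pow,
      AdjoinRoot.liftAlgHom_root]
    fin_cases i
    · simpa using h0.symm
    · simp
  exact ⟨(AlgEquiv.ofBijective φ (by
    rw [← AlgHom.coe_toLinearMap, hφ]; exact LinearEquiv.bijective _)).symm⟩

end Quad

variable {k : Type u} [Field k] [CharZero k] {P : Type v} [CommRing P] [Algebra (PowerSeries k) P]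

local notation "R" => PowerSeries k
local notation "t" => (PowerSeries.X : PowerSeries k)

theorem double_crimp (B₀ : Module.Basis (Fin 2) R P) (h0 : B₀ 0 = 1) (ε : ℕ)
    (h1 : B₀ 1 * B₀ 1 = algebraMap R P (t ^ ε)) (b : ℕ) (S : Subalgebra R P) :
    ((∃ bS : Module.Basis (Fin 2) R S, Ideal.span {Algebra.discr R ⇑bS} = Ideal.span {t ^ b}) ↔
      ∃ n : ℕ, b = 2 * n + ε ∧
        Subalgebra.toSubmodule S = Submodule.span R {(1 : P)} ⊔ Ideal.span {t ^ n} • (⊤ : Submodule R P)) ∧
    ∀ n : ℕ, Subalgebra.toSubmodule S = Submodule.span R {(1 : P)} ⊔ Ideal.span {t ^ n} • (⊤ : Submodule R P) →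
      Nonempty (S ≃ₐ[R] AdjoinRoot (X ^ 2 - C (t ^ (2 * n + ε)))) := by
  classical
  have hdec : ∀ z : P, z = B₀.repr z 0 • (1 : P) + B₀.repr z 1 • B₀ 1 := fun z => by
    conv_lhs => rw [← B₀.sum_repr z]
    rw [Fin.sum_univ_two, h0]
  -- the standard crimp
  have hstd : ∀ n : ℕ, Subalgebra.toSubmodule S = Submodule.span R {(1 : P)} ⊔ Ideal.span {t ^ n} • (⊤ : Submodule R P) →
      ∃ B : Module.Basis (Fin 2) R S, B 0 = 1 ∧ B 1 * B 1 = algebraMap R S (t ^ (2 * n + ε)) := by
    intro n hS
    have hmemS : ∀ z, z ∈ S ↔ z ∈ Submodule.span R {(1 : P)} ⊔ Ideal.span {t ^ n} • (⊤ : Submodule R P) :=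
      fun z => by rw [← hS]; exact Iff.rfl
    have hy : t ^ n • B₀ 1 ∈ S := (hmemS _).2
      (Submodule.mem_sup_right (Submodule.smul_mem_smul (Ideal.mem_span_singleton_self _) Submodule.mem_top))
    let v : Fin 2 → S := ![1, ⟨t ^ n • B₀ 1, hy⟩]
    have hli : LinearIndependent R v := by
      rw [LinearIndependent.pair_iff]
      intro a c hac
      have h := congrArg (fun z : S => B₀.repr (z : P)) hac
      simp only [AddMemClass.coe_add, SetLike.val_smul, OneMemClass.coe_one, ZeroMemClass.coe_zero, map_add,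
        map_smul, map_zero] at h
      rw [← h0, B₀.repr_self, B₀.repr_self] at h
      have ha := congrArg (fun f => f 0) h
      have hb := congrArg (fun f => f 1) h
      simp at ha hb
      exact ⟨ha, hb⟩
    have hsp : ⊤ ≤ Submodule.span R (Set.range v) := by
      rintro ⟨z, hz⟩ -
      obtain ⟨a, ha, c, hc, hzac⟩ := Submodule.mem_sup.1 ((hmemS z).1 hz)
      obtain ⟨a', rfl⟩ := Submodule.mem_span_singleton.1 ha
      rw [Submodule.ideal_span_singleton_smul, Submodule.mem_smul_pointwise_iff_exists] at hc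
      obtain ⟨c', -, rfl⟩ := hc
      rw [Submodule.mem_span_range_iff_exists_fun]
      refine ⟨![a' + t ^ n * B₀.repr c' 0, B₀.repr c' 1], Subtype.ext ?_⟩
      rw [Fin.sum_univ_two]
      simp only [v, Matrix.cons_val_zero, Matrix.cons_val_one, AddMemClass.coe_add, SetLike.val_smul,
        OneMemClass.coe_one]
      rw [← hzac]
      conv_rhs => rw [hdec c']
      simp only [smul_add, smul_smul, add_smul, mul_comm]
      abel
    refine ⟨Module.Basis.mk hli hsp, by rw [Module.Basis.mk_apply]; rfl, Subtype.ext ?_⟩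
    rw [MulMemClass.coe_mul, Module.Basis.mk_apply]
    change (t ^ n • B₀ 1) * (t ^ n • B₀ 1) = algebraMap R P _
    rw [smul_mul_smul_comm, h1, Algebra.smul_def, ← map_mul, ← pow_add, ← pow_add, two_mul]
  have hdisc : ∀ n : ℕ, ∀ B : Module.Basis (Fin 2) R S, B 0 = 1 →
      B 1 * B 1 = algebraMap R S (t ^ (2 * n + ε)) →
      Ideal.span {Algebra.discr R ⇑B} = Ideal.span {t ^ (2 * n + ε)} := by
    intro n B hB0 hB1
    rw [discr_quad B hB0 hB1]
    refine Ideal.span_singleton_mul_left_unit ?_ _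
    rw [PowerSeries.isUnit_iff_constantCoeff, map_ofNat]
    exact isUnit_iff_ne_zero.2 (by norm_num)
  refine ⟨⟨fun ⟨bS, hbS⟩ => ?_, fun ⟨n, hn, hS⟩ => ?_⟩, fun n hS => ?_⟩
  · let I : Ideal R := Submodule.comap (LinearMap.toSpanSingleton R P (B₀ 1)) (Subalgebra.toSubmodule S)
    have hI : ∀ z : P, z ∈ S ↔ B₀.repr z 1 ∈ I := fun z => by
      change z ∈ Subalgebra.toSubmodule S ↔ B₀.repr z 1 • B₀ 1 ∈ Subalgebra.toSubmodule S
      conv_lhs => rw [hdec z]
      exact Submodule.add_mem_iff_right _ (Submodule.smul_mem _ _ S.one_mem)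
    have hne : I ≠ ⊥ := fun hbot => by
      have hall : ∀ i, (bS i : P) = B₀.repr (bS i : P) 0 • (1 : P) := fun i => by
        conv_lhs => rw [hdec (bS i : P)]
        have h : B₀.repr (bS i : P) 1 = 0 := by
          have := (hI _).1 (bS i).2; rwa [hbot, Submodule.mem_bot] at this
        rw [h, zero_smul, add_zero]
      have h := LinearIndependent.pair_iff.1
        (show LinearIndependent R ![bS 0, bS 1] by
          rw [show ![bS 0, bS 1] = ⇑bS by funext i; fin_cases i <;> rfl]; exact bS.linearIndependent)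
        (B₀.repr (bS 1 : P) 0) (-(B₀.repr (bS 0 : P) 0)) (Subtype.ext (by
          rw [AddMemClass.coe_add, SetLike.val_smul, SetLike.val_smul, hall 0, hall 1, smul_smul, smul_smul,
            ← add_smul, ← hall 0, ← hall 1, ZeroMemClass.coe_zero,
            show B₀.repr (bS 1 : P) 0 * B₀.repr (bS 0 : P) 0 + -(B₀.repr (bS 0 : P) 0) * B₀.repr (bS 1 : P) 0 = 0 by ring,
            zero_smul]))
      have h00 : (bS 0 : P) = 0 := by rw [hall 0, neg_eq_zero.1 h.2, zero_smul]
      exact bS.ne_zero 0 (Subtype.ext h00)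
    obtain ⟨n, hn⟩ := IsDiscreteValuationRing.ideal_eq_span_pow_irreducible hne PowerSeries.X_irreducible
    have hS : Subalgebra.toSubmodule S = Submodule.span R {(1 : P)} ⊔ Ideal.span {t ^ n} • (⊤ : Submodule R P) := by
      refine le_antisymm (fun z hz => ?_) (sup_le ?_ ?_)
      · rw [hdec z]
        refine add_mem (Submodule.mem_sup_left (Submodule.smul_mem _ _ (Submodule.mem_span_singleton_self _)))
          (Submodule.mem_sup_right (Submodule.smul_mem_smul ?_ Submodule.mem_top))
        rw [← hn]; exact (hI z).1 hz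
      · exact (Submodule.span_singleton_le_iff_mem _ _).2 S.one_mem
      · rw [Submodule.smul_le]
        intro r hr z _
        refine (hI _).2 ?_
        rw [map_smul, Finsupp.smul_apply, smul_eq_mul, hn]
        exact Ideal.mul_mem_right _ _ hr
    refine ⟨n, ?_, hS⟩
    obtain ⟨B, hB0, hB1⟩ := hstd n hS
    have h2 : Ideal.span {Algebra.discr R ⇑bS} = Ideal.span {Algebra.discr R ⇑B} := by
      have key : ∀ (C D : Module.Basis (Fin 2) R S), Algebra.discr R ⇑C ∣ Algebra.discr R ⇑D := fun C D => by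
        rw [← C.toMatrix_map_vecMul ⇑D, Algebra.discr_of_matrix_vecMul]
        exact dvd_mul_left _ _
      exact le_antisymm (Ideal.span_singleton_le_span_singleton.2 (key B bS))
        (Ideal.span_singleton_le_span_singleton.2 (key bS B))
    rw [h2, hdisc n B hB0 hB1, Ideal.span_singleton_eq_span_singleton] at hbS
    have h3 := (pow_dvd_pow_iff PowerSeries.X_ne_zero PowerSeries.X_prime.not_isUnit).1 hbS.dvd
    have h4 := (pow_dvd_pow_iff PowerSeries.X_ne_zero PowerSeries.X_prime.not_isUnit).1 hbS.symm.dvd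
    omega
  · obtain ⟨B, hB0, hB1⟩ := hstd n hS
    exact ⟨B, by rw [hn]; exact hdisc n B hB0 hB1⟩
  · obtain ⟨B, hB0, hB1⟩ := hstd n hS
    exact adjoinRoot_equiv B hB0 hB1

end Groth.Agent.CrimpLib
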