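import Groth.Prelude.Def_W4c1hurwitzcptBd
import Mathlib

/-!
# Valuation-adapted generators of lattices in a totally ramified cover
-/

universe u v

namespace Groth.Agent.CrimpLib

open W4c1hurwitzcpt PowerSeries

variable {k : Type u} [Field k]

/-- A submodule with a full basis contains a power of `t` times everything. -/
theorem exists_pow_smul_mem {P : Type v} [AddCommGroup P] [Module k⟦X⟧ P] {n : ℕ}
    (B₀ : Module.Basis (Fin n) k⟦X⟧ P) (M : Submodule k⟦X⟧ P) (bM : Module.Basis (Fin n) k⟦X⟧ M) :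
    ∃ e : ℕ, ∀ z : P, (X : k⟦X⟧) ^ e • z ∈ M := by
  classical
  let A : Matrix (Fin n) (Fin n) k⟦X⟧ := fun i j => B₀.repr (bM j : P) i
  have hA : ∀ v : Fin n → k⟦X⟧, (B₀.equivFun.symm (A.mulVec v) : P) = ∑ j, v j • (bM j : P) := fun v => by
    refine B₀.equivFun.injective (funext fun i => ?_)
    rw [LinearEquiv.apply_symm_apply, map_sum, Finset.sum_apply]
    simp [A, Matrix.mulVec, dotProduct, mul_comm]
  have hdet : A.det ≠ 0 := by
    intro h0
    obtain ⟨v, hv, hv0⟩ := Matrix.exists_mulVec_eq_zero_iff.2 h0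
    refine hv (funext fun j => ?_)
    have h := hA v
    rw [hv0, map_zero] at h
    exact Fintype.linearIndependent_iff.1 bM.linearIndependent v (Subtype.ext (by
      rw [AddSubmonoidClass.coe_finsetSum]; exact h.symm)) j
  obtain ⟨e, u, hu⟩ := IsDiscreteValuationRing.eq_unit_mul_pow_irreducible hdet PowerSeries.X_irreducible
  refine ⟨e, fun z => ?_⟩
  have h : A.mulVec (A.adjugate.mulVec (B₀.equivFun z)) = A.det • B₀.equivFun z := by
    rw [Matrix.mulVec_mulVec, Matrix.mul_adjugate, Matrix.smul_mulVec, Matrix.one_mulVec]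
  have hz : A.det • z ∈ M := by
    have h' := hA (A.adjugate.mulVec (B₀.equivFun z))
    rw [h, map_smul, LinearEquiv.symm_apply_apply] at h'
    rw [h']
    exact Submodule.sum_mem _ fun j _ => M.smul_mem _ (bM j).2
  have := M.smul_mem (↑u⁻¹ : k⟦X⟧) hz
  rwa [smul_smul, hu, ← mul_assoc, Units.inv_mul, one_mul] at this

variable {p : ℕ} [NeZero p]

theorem val_smul (c : k⟦X⟧) (z : RootDisk p k) :
    RootDisk.val (c • z) = PowerSeries.expand p (NeZero.ne p) c * RootDisk.val z := by
  rw [Algebra.smul_def, map_mul]; rfl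

theorem coeff_expand_mul_of_lt {r : ℕ} (hr : r < p) (c : k⟦X⟧) (q : ℕ) (j : ℕ) (hj : j < p) :
    coeff (p * q + r) (PowerSeries.expand p (NeZero.ne p) c * X ^ j) = if r = j then coeff q c else 0 := by
  rw [coeff_mul_X_pow']
  split_ifs with h1 h2
  · subst h2; rw [Nat.add_sub_cancel, coeff_expand_mul]
  · refine coeff_expand_of_not_dvd _ _ _ fun hd => h2 ?_
    obtain ⟨s, hs⟩ := hd
    rcases lt_trichotomy s q with h | h | h
    · have h3 := Nat.mul_le_mul_left p (Nat.succ_le_iff.2 h)
      rw [Nat.mul_succ] at h3; omega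
    · subst h; omega
    · have h3 := Nat.mul_le_mul_left p (Nat.succ_le_iff.2 h)
      rw [Nat.mul_succ] at h3; omega
  · omega
  · rfl

/-- The standard basis `1, x, …, x^{p-1}`. -/
theorem exists_rootDisk_basis : Nonempty (Module.Basis (Fin p) k⟦X⟧ (RootDisk p k)) := by
  let φ : (Fin p → k⟦X⟧) →ₗ[k⟦X⟧] RootDisk p k :=
    Fintype.linearCombination k⟦X⟧ fun j => RootDisk.val.symm ((X : k⟦X⟧) ^ (j : ℕ))
  have hφ : ∀ v, RootDisk.val (φ v) = ∑ j, PowerSeries.expand p (NeZero.ne p) (v j) * X ^ (j : ℕ) := fun v => by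
    rw [Fintype.linearCombination_apply, map_sum]
    exact Finset.sum_congr rfl fun j _ => by rw [val_smul, RingEquiv.apply_symm_apply]
  have key : ∀ v q (r : Fin p), coeff (p * q + r) (RootDisk.val (φ v)) = coeff q (v r) := fun v q r => by
    rw [hφ, map_sum, Finset.sum_eq_single r]
    · rw [coeff_expand_mul_of_lt r.2 _ _ _ r.2, if_pos rfl]
    · intro j _ hj
      rw [coeff_expand_mul_of_lt r.2 _ _ _ j.2, if_neg fun h => hj (Fin.ext h.symm)]
    · simp
  refine ⟨Module.Basis.ofEquivFun (LinearEquiv.ofBijective φ ⟨fun v w h => ?_, fun z => ?_⟩).symm⟩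
  · funext r; ext q; rw [← key v q r, ← key w q r, h]
  · refine ⟨fun r => mk fun q => coeff (p * q + r) (RootDisk.val z), RootDisk.val.injective ?_⟩
    ext m
    have hp : 0 < p := Nat.pos_of_ne_zero (NeZero.ne p)
    have h := key (fun r => mk fun q => coeff (p * q + r) (RootDisk.val z)) (m / p) ⟨m % p, Nat.mod_lt _ hp⟩
    simp only [coeff_mk, Nat.div_add_mod] at h
    exact h

/-- Generators with pairwise incongruent orders. -/
theorem exists_val_generators (M : Submodule k⟦X⟧ (RootDisk p k)) (e : ℕ)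
    (he : ∀ z : RootDisk p k, (X : k⟦X⟧) ^ e • z ∈ M) :
    ∃ g : Fin p → M, (∀ r : Fin p, ∃ d : ℕ, d % p = r ∧ (RootDisk.val (g r : RootDisk p k)).order = d) ∧
      Submodule.span k⟦X⟧ (Set.range g) = ⊤ := by
  classical
  have hp : 0 < p := Nat.pos_of_ne_zero (NeZero.ne p)
  have hex : ∀ r : Fin p, ∃ d : ℕ, d % p = r ∧ ∃ z : M, (RootDisk.val (z : RootDisk p k)).order = d := fun r => by
    refine ⟨p * e + r, by rw [Nat.mul_add_mod, Nat.mod_eq_of_lt r.2], ⟨_, he (RootDisk.val.symm (X ^ (r : ℕ)))⟩, ?_⟩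
    change (RootDisk.val ((X : k⟦X⟧) ^ e • RootDisk.val.symm ((X : k⟦X⟧) ^ (r : ℕ)) : RootDisk p k)).order = _
    rw [val_smul, RingEquiv.apply_symm_apply, map_pow, expand_X, ← pow_mul, ← pow_add, order_X_pow]
  choose g hg using fun r => (Nat.find_spec (hex r)).2
  have hmin : ∀ (r : Fin p) (z : M) (d : ℕ), d % p = r → (RootDisk.val (z : RootDisk p k)).order = d →
      Nat.find (hex r) ≤ d := fun r z d hd hz => Nat.find_min' (hex r) ⟨hd, z, hz⟩
  refine ⟨g, fun r => ⟨_, (Nat.find_spec (hex r)).1, hg r⟩, ?_⟩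
  set W := Submodule.span k⟦X⟧ (Set.range g) with hW
  have step : ∀ (j : ℕ) (f : M), ∃ w ∈ W, (j : ℕ∞) ≤ (RootDisk.val ((f - w : M) : RootDisk p k)).order := by
    intro j f
    induction j with
    | zero => exact ⟨0, zero_mem _, by simp⟩
    | succ j ih =>
      obtain ⟨w, hw, hwj⟩ := ih
      set h := RootDisk.val ((f - w : M) : RootDisk p k) with hh
      by_cases hj : coeff j h = 0
      · refine ⟨w, hw, nat_le_order _ _ fun i hi => ?_⟩
        rw [← hh]
        rcases Nat.lt_succ_iff_lt_or_eq.1 hi with h' | rfl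
        · exact coeff_of_lt_order _ (lt_of_lt_of_le (Nat.cast_lt.2 h') hwj)
        · exact hj
      · let r : Fin p := ⟨j % p, Nat.mod_lt _ hp⟩
        have hord : h.order = j := le_antisymm (order_le _ hj) hwj
        have hle := hmin r (f - w) j rfl hord
        have hdr : Nat.find (hex r) % p = j % p := (Nat.find_spec (hex r)).1
        obtain ⟨hl, hlow⟩ := order_eq_nat.1 (hg r)
        obtain ⟨q, hq⟩ : p ∣ j - Nat.find (hex r) := Nat.dvd_of_mod_eq_zero (Nat.sub_mod_eq_zero_of_mod_eq hdr.symm)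
        let a : k := coeff j h / coeff (Nat.find (hex r)) (RootDisk.val (g r : RootDisk p k))
        refine ⟨w + (C a * X ^ q) • g r, add_mem hw (W.smul_mem _ (Submodule.subset_span ⟨r, rfl⟩)),
          nat_le_order _ _ fun i hi => ?_⟩
        rw [show ((f - (w + (C a * X ^ q) • g r) : M) : RootDisk p k) =
            ((f - w : M) : RootDisk p k) - (C a * X ^ q) • (g r : RootDisk p k) by
          rw [← sub_sub]; rfl, map_sub, ← hh, val_smul, map_mul, expand_C, map_pow, expand_X, ← pow_mul, ← hq,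
          map_sub, mul_assoc, coeff_C_mul, coeff_X_pow_mul']
        rcases Nat.lt_succ_iff_lt_or_eq.1 hi with h' | rfl
        · rw [coeff_of_lt_order _ (lt_of_lt_of_le (Nat.cast_lt.2 h') hwj)]
          split
          · rw [hlow _ (by omega), mul_zero, sub_zero]
          · rw [mul_zero, sub_zero]
        · rw [if_pos (by omega), show i - (i - Nat.find (hex r)) = Nat.find (hex r) by omega,
            div_mul_cancel₀ _ hl, sub_self]
  haveI : Module.Finite k⟦X⟧ (RootDisk p k) := by
    obtain ⟨B⟩ := exists_rootDisk_basis (k := k) (p := p)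
    exact Module.Finite.of_basis B
  have hle : (⊤ : Submodule k⟦X⟧ M) ≤ W ⊔ Ideal.span {(X : k⟦X⟧)} • ⊤ := by
    intro f _
    obtain ⟨w, hw, hord⟩ := step (p * (e + 1)) f
    obtain ⟨y, hy⟩ := X_pow_dvd_iff.2 fun i hi =>
      coeff_of_lt_order i (lt_of_lt_of_le (Nat.cast_lt.2 hi) hord)
    have hfw : (f - w : M) = (X : k⟦X⟧) • (⟨(X : k⟦X⟧) ^ e • RootDisk.val.symm y, he _⟩ : M) := Subtype.ext
      (RootDisk.val.injective (by
        rw [hy, SetLike.val_smul, val_smul, val_smul, RingEquiv.apply_symm_apply, map_pow, expand_X, ← pow_mul,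
          ← mul_assoc, ← pow_add, show p + p * e = p * (e + 1) by ring]))
    rw [← sub_add_cancel f w, hfw, add_comm]
    exact add_mem (Submodule.mem_sup_left hw) (Submodule.mem_sup_right
      (Submodule.smul_mem_smul (Ideal.mem_span_singleton_self _) Submodule.mem_top))
  refine eq_top_iff.2 (Submodule.le_of_le_smul_of_le_jacobson_bot ?_ ?_ hle)
  · exact Module.Finite.fg_top
  · rw [IsLocalRing.jacobson_eq_maximalIdeal ⊥ bot_ne_top, Ideal.span_le, Set.singleton_subset_iff]
    exact PowerSeries.maximalIdeal_eq_span_X (k := k) ▸ Ideal.mem_span_singleton_self _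

end Groth.Agent.CrimpLib
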